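import Cfsg.Agent.H76.OC.AutP
import Cfsg.Agent.H612.BNAut
import Cfsg.Agent.H554.RG

/-!
# Automorphisms fixing `B` preserve the bonds and the orders of the root groups (helper40, S4829, piece D of helper655)

* `card_WJ_le`, `label_eq` : `M (σ i) (σ j) = M i j`;
* `card_X_eq` : `|X_{σ i}| = |X_i|`;
* `exists_perm_PJ'`, `exists_conj_perm'` : `H76.OC.exists_perm_PJ`, `exists_conj_perm` with these two facts.
-/

set_option autoImplicit false
set_option linter.unusedSectionVars false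

namespace Cfsg.Agent.H40.R2

open Cfsg Subgroup
open CoxeterSystem Cfsg.Agent.ChevalleyStructure.CoxeterGeom Cfsg.Agent.Tits.Roots Cfsg.Agent.Tits.Core
  Cfsg.Agent.Nodes.Reps Cfsg.Agent.Nodes.BNOf Cfsg.Agent.Nodes.LeviDec Cfsg.Agent.Nodes.Bruhat
  Cfsg.Agent.Nodes.StabComb Cfsg.Agent.Nodes.OppDec

variable {I : Type*} [Fintype I] [DecidableEq I] {M : CoxeterMatrix I} {W : Type*} [Group W] [Finite W]
  {cs : CoxeterSystem M W} {A : I → I → ℤ} {h : IsCartan M A} {p : ℕ} {Y : Type*} [Group Y] {T : Subgroup Y}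
  {n : I → Y} {X : (I → ℤ) → Subgroup Y} (R : RGD cs h p T n X)

/-- elements of the same cell -/
theorem cell_eq {w : W} {g g' : Y} (hg : Cell R.nsys cs h X w g) (hg' : Cell R.nsys cs h X w g') :
    ∃ b ∈ RGD.B cs h T X, ∃ c ∈ RGD.B cs h T X, g' = b * g * c := by
  obtain ⟨b₁, hb₁, k, hk, b₂, hb₂, rfl⟩ := hg
  obtain ⟨c₁, hc₁, l, hl, c₂, hc₂, rfl⟩ := hg'
  have h1 : l * k⁻¹ ∈ T := by
    have := hl.mul hk.inv
    rw [mul_inv_cancel] at this
    exact this.mem_of_one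
  refine ⟨c₁ * (l * k⁻¹) * b₁⁻¹, mul_mem (mul_mem hc₁ (RGD.T_le_B h1)) (inv_mem hb₁), b₂⁻¹ * c₂,
    mul_mem (inv_mem hb₂) hc₂, by group⟩

include R in
theorem card_WJ_le {β : MulAut Y} (hβ : (RGD.B cs h T X).map β.toMonoidHom = RGD.B cs h T X) {K K' : Set I}
    (hK : (PJ cs h T X K).map β.toMonoidHom = PJ cs h T X K') : Nat.card (WJ cs K) ≤ Nat.card (WJ cs K') := by
  choose k hk using fun w : W => exists_rp cs R.nsys w
  have hmem : ∀ w : WJ cs K, ∃ w' : WJ cs K', Cell R.nsys cs h X (w' : W) (β (k w)) := by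
    intro w
    have h1 : k w ∈ PJ cs h T X K := (cell_mem_PJ_iff R (cell_of_rp (hk w))).2 w.2
    have h2 : β (k w) ∈ PJ cs h T X K' := by
      rw [← hK]
      exact ⟨_, h1, rfl⟩
    obtain ⟨w', hw', hc⟩ := (mem_PJ_iff_cell R).1 h2
    exact ⟨⟨w', hw'⟩, hc⟩
  choose φ hφ using hmem
  refine Nat.card_le_card_of_injective φ fun v w hvw => ?_
  have h1 := hφ v
  have h2 := hφ w
  rw [← hvw] at h2
  obtain ⟨b, hb, c, hc, e⟩ := cell_eq R h1 h2
  rw [← hβ] at hb hc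
  obtain ⟨b', hb', rfl⟩ := hb
  obtain ⟨c', hc', rfl⟩ := hc
  have h3 : k w = b' * k v * c' := by
    apply β.injective
    rw [map_mul, map_mul]
    exact e
  have h4 : Cell R.nsys cs h X (v : W) (k w) := by
    rw [h3]
    exact ((cell_of_rp (hk v)).mul_left hb').mul_right hc'
  exact Subtype.ext (Cell.unique R h4 (cell_of_rp (hk w)))

include R in
/-- **the bonds** -/
theorem label_eq {β : MulAut Y} (hβ : (RGD.B cs h T X).map β.toMonoidHom = RGD.B cs h T X) {σ : Equiv.Perm I}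
    (hσ : ∀ J : Set I, (PJ cs h T X J).map β.toMonoidHom = PJ cs h T X (σ '' J)) (i j : I) :
    M (σ i) (σ j) = M i j := by
  by_cases hij : i = j
  · subst hij
    rw [M.diagonal, M.diagonal]
  · have h1 : σ '' {i, j} = {σ i, σ j} := Set.image_pair _ _ _
    have h2 := card_WJ_le R hβ (hσ {i, j})
    have h3 := card_WJ_le R (β := β.symm) (H612.BNAut.map_symm β hβ) (H612.BNAut.map_symm β (hσ {i, j}))
    rw [h1, H612.BNAut.card_WJ_pair cs hij, H612.BNAut.card_WJ_pair cs (σ.injective.ne hij)] at h2 h3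
    omega

include R in
/-- **the orders of the root groups** -/
theorem card_X_eq [Finite Y] {β : MulAut Y} (hβ : (RGD.B cs h T X).map β.toMonoidHom = RGD.B cs h T X) {σ : Equiv.Perm I}
    (hσ : ∀ J : Set I, (PJ cs h T X J).map β.toMonoidHom = PJ cs h T X (σ '' J)) (i : I) :
    Nat.card (X (sr (σ i))) = Nat.card (X (sr i)) := by
  have h1 := Cfsg.Agent.H554.RG.relIndex_B_PJ_singleton R i
  have h2 := Cfsg.Agent.H554.RG.relIndex_B_PJ_singleton R (σ i)
  have h3 := hσ {i}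
  rw [Set.image_singleton] at h3
  rw [← h3, ← hβ] at h2
  have h4 := Subgroup.relIndex_map_map_of_injective (RGD.B cs h T X) (PJ cs h T X {i}) (f := β.toMonoidHom) β.injective
  rw [h4, h1] at h2
  omega

include R in
/-- An automorphism fixing `B` permutes the parabolic subgroups through an automorphism of the labelled diagram. -/
theorem exists_perm_PJ' [Finite Y] (hG : GG cs h T X = ⊤) {β : MulAut Y}
    (hβ : (RGD.B cs h T X).map β.toMonoidHom = RGD.B cs h T X) : ∃ σ : Equiv.Perm I,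
    (∀ i j, M (σ i) (σ j) = M i j) ∧ (∀ i, Nat.card (X (sr (σ i))) = Nat.card (X (sr i))) ∧
    (∀ m, β ^ m = 1 → σ ^ m = 1) ∧
    ∀ J : Set I, (PJ cs h T X J).map β.toMonoidHom = PJ cs h T X (σ '' J) := by
  obtain ⟨σ, -, h3, h4⟩ := H76.OC.exists_perm_PJ R hG hβ
  exact ⟨σ, label_eq R hβ h4, card_X_eq R hβ h4, h3, h4⟩

/-- PIECE D : as `H76.OC.exists_conj_perm`, preserving the bonds and the orders of the root groups -/
theorem exists_conj_perm' [Finite Y] [Fact p.Prime] [IsSimpleGroup Y] [Nonempty I] (R : RGD cs h p T n X)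
    (hG : GG cs h T X = ⊤) {B : Subgroup (MulAut Y)} (hB : IsPGroup p B) : ∃ s : Y, ∀ α ∈ B, ∃ β : MulAut Y,
      β = MulAut.conj s * α * (MulAut.conj s)⁻¹ ∧
      (RGD.B cs h T X).map β.toMonoidHom = RGD.B cs h T X ∧
      ∃ σ : Equiv.Perm I, (∀ i j, (σ i ≠ σ j ∧ M (σ i) (σ j) ≠ 2) ↔ (i ≠ j ∧ M i j ≠ 2)) ∧
        (∀ i j, M (σ i) (σ j) = M i j) ∧ (∀ i, Nat.card (X (sr (σ i))) = Nat.card (X (sr i))) ∧
        (∃ k, σ ^ p ^ k = 1) ∧
        ∀ J : Set I, (PJ cs h T X J).map β.toMonoidHom = PJ cs h T X (σ '' J) := by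
  obtain ⟨s, hs⟩ := H76.OC.exists_conj_perm R hG hB
  refine ⟨s, fun α hα => ?_⟩
  obtain ⟨β, h1, -, -, h2, σ, h3, h4, h5⟩ := hs α hα
  exact ⟨β, h1, h2, σ, h3, label_eq R h2 h5, card_X_eq R h2 h5, h4, h5⟩

end Cfsg.Agent.H40.R2
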